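import Groth.Agent.QuotLib.Atlas
import Groth.Agent.AlgStLib.DiagLFT
import Groth.Agent.AlgStLib.Stack
import Groth.Agent.AlgStLib.FppfSite
import Groth.Agent.AlgSpLib.Points

/-!
# The quotient map is flat, locally of finite presentation, surjective, smooth
-/

set_option backward.isDefEq.respectTransparency false
set_option backward.isDefEq.respectTransparency.types false

universe u

open CategoryTheory CategoryTheory.Functor CategoryTheory.Limits MonoidalCategory CartesianMonoidalCategory MonObj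
  GrpObj AlgebraicGeometry AlgSp

namespace Groth.Agent.QuotLib

open Groth.Agent.FibBase Groth.Agent.AlgSpLib Groth.Agent.AlgStLib

variable {S : Scheme.{u}} {G : Over S} [GrpObj G] {X : Over S} {aX : AlgGrp.Action G X}

local notation "K₀" => Scheme.fppfPrecoverage

theorem repByAlgSpWith_quot {K : Precoverage Scheme.{u}} [K.HasIsos] (P : MorphismProperty (Sp S))
    (h : ∀ A : AlgSt.QuotObj K G aX, ∀ {U : Over S} (eU : A.base = U), P ((yon S).map (A.π ≫ eqToHom eU))) :
    AlgSt.RepByAlgSpWith P (quotOver K G aX) := fun U y => by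
  refine ⟨⟨(yon S).obj (torsor y).P, IsAlgSpace.yon_obj _⟩,
    BasedFunctor.comp (AlgSt.toOverCat (torsor y).P) (toFp y),
    isEquivOver_comp (isEquivOver_toOverCat _) (toFp_isEquivOver y), ?_⟩
  rw [spMapOfOver_congr (show BasedFunctor.comp (BasedFunctor.comp (AlgSt.toOverCat (torsor y).P) (toFp y))
      (FibCat.fpFst y (quotOver K G aX)) ≅
      BasedFunctor.comp (AlgSt.ofSpMap ((yon S).map (torsorπ y))) (AlgSt.toOverCat U) from
      overIso _ _ fun z => by
        show 𝟙 z.base ≫ (z.sec.down ≫ torsorπ y) = z.sec.down ≫ torsorπ y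
        simp),
    spMapOfOver_ofSpMap_toOverCat]
  exact h _ _

theorem flat_snd {R : MorphismProperty Scheme.{u}} [R.IsStableUnderBaseChange] (hG : R G.hom) (T : Over S) :
    R (snd G T).left :=
  MorphismProperty.of_isPullback ((AlgSt.isPullback_fst_snd G T).map (Over.forget S))
    (show R (toUnit G).left by
      have h : (toUnit G).left = G.hom := by simpa using Over.w (toUnit G)
      rw [h]; exact hG)

theorem locP_π {R : MorphismProperty Scheme.{u}} [IsEtLocal R] [R.IsStableUnderBaseChange]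
    (hloc : IsLocalOnBase IsFppfCover (LocP (S := S) R)) (hG : R G.hom) (A : AlgSt.QuotObj K₀ G aX) {U : Over S}
    (eU : A.base = U) : LocP R ((yon S).map (A.π ≫ eqToHom eU)) := by
  subst eU
  rw [eqToHom_refl, Category.comp_id]
  obtain ⟨Rv, hR, hsec⟩ := A.loc
  have hcov : ∀ x : ↥A.base.left, ∃ (T' : Scheme.{u}) (f : T' ⟶ A.base.left), Rv f ∧ x ∈ Set.range f :=
    fun x => by
      obtain ⟨Y, g, ⟨hg⟩, hx⟩ := hR.1 x
      exact ⟨_, _, hg, hx⟩
  choose T f hf hx using hcov
  have hfp : ∀ x, Flat (f x) ∧ LocallyOfFinitePresentation (f x) := fun x => hR.2 (hf x)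
  choose s hs using fun x => hsec (f x) (hf x)
  have hs' : ∀ x, s x ≫ A.π.left = f x := hs
  let Ts : ↥A.base.left → Over S := fun x => Over.mk (f x ≫ A.base.hom)
  let b : ∀ x, Ts x ⟶ A.P := fun x => Over.homMk (s x) (by
    show s x ≫ A.P.hom = f x ≫ A.base.hom
    rw [← Over.w A.π, ← Category.assoc, hs'])
  have sq : ∀ x, IsPullback ((G ◁ b x) ≫ A.act.act) (snd G (Ts x)) A.π (b x ≫ A.π) := fun x =>
    (AlgSt.isPullback_whiskerLeft (b x)).paste_horiz A.cart
  refine (hloc (fun x => (yon S).obj (Ts x)) (fun x => (yon S).map (b x ≫ A.π)) (IsAlgSpace.yon_obj _)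
    (fun x => IsAlgSpace.yon_obj _)
    (isFppfCover_yon_map Ts (fun x => b x ≫ A.π) (fun x => ?_) (fun x => ?_) (fun x => ⟨x, ?_⟩))
    ((yon S).map A.π) (IsAlgSpace.yon_obj _) (fun x => (yon S).obj (G ⊗ Ts x))
    (fun x => (yon S).map (snd G (Ts x))) (fun x => (yon S).map ((G ◁ b x) ≫ A.act.act))
    (fun x => IsAlgSpace.yon_obj _) (fun x => (sq x).map (yon S))).2
    fun x => locP_of_repWith ((repWith_yon_map_iff _ _).2 (flat_snd hG (Ts x)))
  · show Flat (s x ≫ A.π.left)
    rw [hs']; exact (hfp x).1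
  · show LocallyOfFinitePresentation (s x ≫ A.π.left)
    rw [hs']; exact (hfp x).2
  · show x ∈ Set.range (s x ≫ A.π.left)
    rw [hs']; exact hx x

theorem surjective_π (A : AlgSt.QuotObj K₀ G aX) {U : Over S} (eU : A.base = U) :
    IsSurjectiveMor ((yon S).map (A.π ≫ eqToHom eU)) := by
  subst eU
  rw [eqToHom_refl, Category.comp_id]
  refine surjective_map_of_repWith ((repWith_yon_map_iff _ _).2 ⟨fun x => ?_⟩)
  obtain ⟨Rv, hR, hsec⟩ := A.loc
  obtain ⟨Y, g, ⟨hg⟩, hx⟩ := hR.1 x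
  obtain ⟨w, rfl⟩ := hx
  obtain ⟨s, hs⟩ := hsec _ hg
  exact ⟨s w, (Scheme.Hom.comp_apply s A.π.left w).symm.trans (congrArg (fun k => k w) hs)⟩

theorem quot_flat_lfp_surjective [Flat G.hom] [LocallyOfFinitePresentation G.hom] :
    AlgSt.RepByAlgSpWith (LocP @Flat) (quotOver K₀ G aX) ∧
      AlgSt.RepByAlgSpWith (LocP @LocallyOfFinitePresentation) (quotOver K₀ G aX) ∧
        AlgSt.RepByAlgSpWith IsSurjectiveMor (quotOver K₀ G aX) :=
  ⟨repByAlgSpWith_quot _ fun A _ eU => locP_π (isLocalOnBase_fppf_of_fpqc isLocalOnBase_fpqc_locP) ‹_› A eU,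
    repByAlgSpWith_quot _ fun A _ eU => locP_π (isLocalOnBase_fppf_of_fpqc isLocalOnBase_fpqc_locP) ‹_› A eU,
    repByAlgSpWith_quot _ fun A _ eU => surjective_π A eU⟩

theorem quot_smooth_surjective [Smooth G.hom] :
    AlgSt.RepByAlgSpWith (LocP @Smooth) (quotOver K₀ G aX) ∧
      AlgSt.RepByAlgSpWith IsSurjectiveMor (quotOver K₀ G aX) :=
  ⟨repByAlgSpWith_quot _ fun A _ eU => locP_π (isLocalOnBase_fppf_of_fpqc isLocalOnBase_fpqc_locP) ‹_› A eU,
    repByAlgSpWith_quot _ fun A _ eU => surjective_π A eU⟩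

end Groth.Agent.QuotLib
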