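import Groth.Agent.QuotLib.AtlasProps
import Groth.Agent.AlgSpLib.LocP
import Groth.Agent.AlgStLib.OfPsh

/-!
# Invariant maps to algebraic spaces descend to the quotient stack
-/

set_option backward.isDefEq.respectTransparency false
set_option backward.isDefEq.respectTransparency.types false

universe u

open CategoryTheory CategoryTheory.Functor CategoryTheory.Limits MonoidalCategory CartesianMonoidalCategory MonObj
  GrpObj AlgebraicGeometry AlgSp Opposite

namespace Groth.Agent.QuotLib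

open Groth.Agent.FibBase Groth.Agent.AlgSpLib Groth.Agent.AlgStLib

variable {S : Scheme.{u}} {G : Over S} [GrpObj G] {X : Over S} {aX : AlgGrp.Action G X}

local notation "K₀" => Scheme.fppfPrecoverage

theorem locP_left {R : MorphismProperty Scheme.{u}} [IsEtLocal R] [R.IsStableUnderBaseChange] {U V : Over S}
    (a : U ⟶ V) (h : LocP R ((yon S).map a)) : R a.left :=
  (repWith_yon_map_iff R a).1
    (repWith_of_locP (IsAlgSpace.yon_obj _) ((IsAlgSpace.yon_obj V).representable_from_yon _) h)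

theorem fppf_π [Flat G.hom] [LocallyOfFinitePresentation G.hom] (A : AlgSt.QuotObj K₀ G aX) :
    fppf A.π.left := by
  refine ⟨⟨⟨fun x => ?_⟩, ?_⟩, ?_⟩
  · obtain ⟨Rv, hR, hsec⟩ := A.loc
    obtain ⟨Y, g, ⟨hg⟩, hx⟩ := hR.1 x
    obtain ⟨w, rfl⟩ := hx
    obtain ⟨s, hs⟩ := hsec _ hg
    exact ⟨s w, (Scheme.Hom.comp_apply s A.π.left w).symm.trans (congrArg (fun k => k w) hs)⟩
  · have h := locP_π (R := @Flat) (isLocalOnBase_fppf_of_fpqc isLocalOnBase_fpqc_locP) ‹_› A (U := A.base) rfl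
    rw [eqToHom_refl, Category.comp_id] at h
    exact locP_left _ h
  · have h := locP_π (R := @LocallyOfFinitePresentation) (isLocalOnBase_fppf_of_fpqc isLocalOnBase_fpqc_locP) ‹_› A
      (U := A.base) rfl
    rw [eqToHom_refl, Category.comp_id] at h
    exact locP_left _ h

theorem isSheafFor_singleton_fppf (M : Sp S) {T T' : Over S} (g : T' ⟶ T) (hg : fppf g.left) :
    Presieve.IsSheafFor M.obj (Presieve.singleton g) :=
  (Presieve.isSheafFor_iff_generate _).2 (((isSheaf_iff_isSheaf_of_type _ _).1 M.property) _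
    (mem_J_of_fppf g hg _ ⟨T', 𝟙 T', g, Presieve.singleton_self g, Category.id_comp _⟩))

theorem eltObj_ext {C : Type*} [Category C] {P : Cᵒᵖ ⥤ Type*} {a b : Stk.EltObj P} (h : a.base = b.base)
    (hs : P.map (eqToHom h).op b.sec = a.sec) : a = b := by
  obtain ⟨x, s⟩ := a
  obtain ⟨y, t⟩ := b
  dsimp only at h hs
  subst h
  simp at hs
  rw [hs]

/-- Functors to the category of a presheaf with the same sections are equal. -/
theorem basedFunctor_eq_of_secAt {C : Type*} [Category C] {𝒳 : BasedCategory C} {Q : Cᵒᵖ ⥤ Type*}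
    (Φ Ψ : 𝒳 ⥤ᵇ Stk.ofPsh Q) (h : ∀ x, secAt Φ x = secAt Ψ x) : Φ = Ψ := by
  have hobj : ∀ x, Φ.obj x = Ψ.obj x := fun x =>
    eltObj_ext ((Φ.w_obj x).trans (Ψ.w_obj x).symm) (by
      refine (res_congr Q (eqToHom_trans (Φ.w_obj x) (Ψ.w_obj x).symm).symm _).trans ?_
      refine (res_res Q _ _ _).symm.trans ?_
      refine (congrArg (Q.map (eqToHom (Φ.w_obj x)).op) (h x).symm).trans ?_
      exact (res_res Q _ _ _).trans (res_id Q _ (eqToHom_trans _ _) _))
  have hF : Φ.toFunctor = Ψ.toFunctor := CategoryTheory.Functor.ext hobj fun x y φ => by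
    refine Stk.EltObj.hom_ext ?_
    have hx : (Φ.map φ).hom = eqToHom (Φ.w_obj x) ≫ 𝒳.p.map φ ≫ eqToHom (Φ.w_obj y).symm :=
      Functor.congr_hom Φ.w φ
    have hy : (Ψ.map φ).hom = eqToHom (Ψ.w_obj x) ≫ 𝒳.p.map φ ≫ eqToHom (Ψ.w_obj y).symm :=
      Functor.congr_hom Ψ.w φ
    have hc : ∀ {a b : Stk.EltObj Q} (e : a = b),
        (eqToHom e : a ⟶ b).hom = eqToHom (congrArg Stk.EltObj.base e) := by
      rintro a b rfl; rfl
    rw [Stk.EltObj.comp_hom, Stk.EltObj.comp_hom, hc, hc, hx, hy]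
    simp
  cases Φ; cases Ψ; cases hF; rfl

section

variable [Flat G.hom] [LocallyOfFinitePresentation G.hom] (M : Sp S) (f : (yon S).obj X ⟶ M)

theorem app_map {T T' : Over S} (g : T' ⟶ T) (x : T ⟶ X) :
    M.obj.map g.op (f.hom.app (op T) ⟨x⟩) = f.hom.app (op T') ⟨g ≫ x⟩ :=
  (NatTrans.naturality_apply f.hom g.op (⟨x⟩ : ULift (T ⟶ X))).symm

theorem app_invariant (hf : (yon S).map aX.act ≫ f = (yon S).map (snd G X) ≫ f) {T : Over S}
    (z : T ⟶ G ⊗ X) : f.hom.app (op T) ⟨z ≫ aX.act⟩ = f.hom.app (op T) ⟨z ≫ snd G X⟩ :=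
  congrArg (fun (k : (yon S).obj (G ⊗ X) ⟶ M) => k.hom.app (op T) ⟨z⟩) hf

variable {M}

theorem existsUnique_desc (hf : (yon S).map aX.act ≫ f = (yon S).map (snd G X) ≫ f)
    (A : AlgSt.QuotObj K₀ G aX) :
    ∃! s : M.obj.obj (op A.base), M.obj.map A.π.op s = f.hom.app (op A.P) ⟨A.φ⟩ := by
  refine Presieve.isSheafFor_singleton.1 (isSheafFor_singleton_fppf M A.π (fppf_π A)) _ fun {Z} p₁ p₂ h => ?_
  rw [app_map, app_map]
  let l : Z ⟶ G ⊗ A.P := A.cart.lift p₁ p₂ h
  have h1 : p₁ = l ≫ A.act.act := (A.cart.lift_fst p₁ p₂ h).symm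
  have h2 : p₂ = l ≫ snd G A.P := (A.cart.lift_snd p₁ p₂ h).symm
  have e1 : p₁ ≫ A.φ = (l ≫ (G ◁ A.φ)) ≫ aX.act := by rw [h1, Category.assoc, A.eqv, Category.assoc]
  have e2 : p₂ ≫ A.φ = (l ≫ (G ◁ A.φ)) ≫ snd G X := by rw [h2, Category.assoc, Category.assoc, whiskerLeft_snd]
  rw [e1, e2]
  exact app_invariant M f hf _

/-- The section attached to a torsor. -/
noncomputable def desc (hf : (yon S).map aX.act ≫ f = (yon S).map (snd G X) ≫ f)
    (A : AlgSt.QuotObj K₀ G aX) : M.obj.obj (op A.base) :=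
  (existsUnique_desc f hf A).exists.choose

theorem desc_spec (hf : (yon S).map aX.act ≫ f = (yon S).map (snd G X) ≫ f) (A : AlgSt.QuotObj K₀ G aX) :
    M.obj.map A.π.op (desc f hf A) = f.hom.app (op A.P) ⟨A.φ⟩ :=
  (existsUnique_desc f hf A).exists.choose_spec

theorem desc_map (hf : (yon S).map aX.act ≫ f = (yon S).map (snd G X) ≫ f) {A B : AlgSt.QuotObj K₀ G aX}
    (g : A ⟶ B) : M.obj.map g.base.op (desc f hf B) = desc f hf A := by
  refine (existsUnique_desc f hf A).unique ?_ (desc_spec f hf A)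
  rw [res_res, res_congr M.obj g.cart.w.symm, ← res_res, desc_spec, app_map, g.wφ]

/-- The functor induced by an invariant map. -/
noncomputable def descFunctor (hf : (yon S).map aX.act ≫ f = (yon S).map (snd G X) ≫ f) :
    AlgSt.QuotSt K₀ G aX ⥤ᵇ AlgSt.ofSp M where
  toFunctor :=
    { obj := fun A => ⟨A.base, desc f hf A⟩
      map := fun g => ⟨g.base, desc_map f hf g⟩ }
  w := rfl

theorem secAt_descFunctor (hf : (yon S).map aX.act ≫ f = (yon S).map (snd G X) ≫ f)
    (A : AlgSt.QuotObj K₀ G aX) : secAt (descFunctor f hf) A = desc f hf A := by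
  show M.obj.map (eqToHom (rfl : A.base = A.base)).op (desc f hf A) = desc f hf A
  simp

theorem existsUnique_descFunctor (hf : (yon S).map aX.act ≫ f = (yon S).map (snd G X) ≫ f) :
    ∃! φ : AlgSt.QuotSt K₀ G aX ⥤ᵇ AlgSt.ofSp M,
      BasedFunctor.comp (AlgSt.quotMap K₀ G aX) φ = AlgSt.ofSpMap f := by
  refine ⟨descFunctor f hf, basedFunctor_eq_of_secAt _ _ fun a => ?_, fun ψ hψ => ?_⟩
  · rw [secAt_ofPshMap]
    refine (secAt_descFunctor f hf ((AlgSt.quotMap K₀ G aX).obj a)).trans ?_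
    refine (existsUnique_desc f hf _).unique (desc_spec f hf _) ?_
    show M.obj.map (snd G a.base).op (f.hom.app (op a.base) ⟨a.sec.down⟩) =
      f.hom.app (op (G ⊗ a.base)) ⟨(G ◁ a.sec.down) ≫ aX.act⟩
    rw [app_map, app_invariant M f hf, whiskerLeft_snd]
  · refine basedFunctor_eq_of_secAt _ _ fun A => ?_
    rw [secAt_descFunctor]
    refine (existsUnique_desc f hf A).unique ?_ (desc_spec f hf A)
    let h := trivHom A (𝟙 A.P) A.φ (Category.id_comp _)
    have hb : (AlgSt.QuotSt K₀ G aX).p.map h = A.π := Category.id_comp _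
    have h1 := secAt_map ψ h
    rw [hb] at h1
    refine h1.trans ?_
    have h2 : ∀ a, secAt (BasedFunctor.comp (AlgSt.quotMap K₀ G aX) ψ) a = secAt (AlgSt.ofSpMap f) a := by
      rw [hψ]; exact fun _ => rfl
    exact (h2 ⟨A.P, ⟨A.φ⟩⟩).trans (secAt_ofPshMap f.hom _)

end

end Groth.Agent.QuotLib
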