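import Groth.Agent.QuotLib.Basic
import Groth.Agent.AlgStLib.OfSp
import Groth.Agent.FibBase.Yoneda
import Groth.Agent.FibBase.FpMaps
import Groth.Prelude.Def_AlgSt3

/-!
# The fibre product of a quotient map with a scheme is the torsor
-/

set_option backward.isDefEq.respectTransparency false
set_option backward.isDefEq.respectTransparency.types false

universe u

open CategoryTheory CategoryTheory.Functor CategoryTheory.Limits MonoidalCategory CartesianMonoidalCategory MonObj
  GrpObj AlgebraicGeometry

namespace Groth.Agent.QuotLib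

open Groth.Agent.GrpSchLib Groth.Agent.FibBase AlgSt

variable {S : Scheme.{u}} {K : Precoverage Scheme.{u}} [K.HasIsos] {G : Over S} [GrpObj G] {X : Over S}
  {aX : AlgGrp.Action G X}

variable (K G aX) in
/-- The quotient map on the slice. -/
noncomputable abbrev quotOver : FibCat.overCat X ⥤ᵇ AlgSt.QuotSt K G aX :=
  BasedFunctor.comp (AlgSt.ofOverCat X) (AlgSt.quotMap K G aX)

variable {U : Over S} (y : FibCat.overCat U ⥤ᵇ AlgSt.QuotSt K G aX)

/-- The torsor classified by a map to the quotient stack. -/
abbrev torsor : AlgSt.QuotObj K G aX := y.obj (Over.mk (𝟙 U))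

theorem base_obj (a : Over U) : (y.obj a).base = a.left := y.w_obj a

/-- Its structure map. -/
noncomputable def torsorπ : (torsor y).P ⟶ U := (torsor y).π ≫ eqToHom (base_obj y (Over.mk (𝟙 U)))

theorem map_base {a a' : Over U} (t : a ⟶ a') :
    (y.map t).base = eqToHom (base_obj y a) ≫ t.left ≫ eqToHom (base_obj y a').symm := by
  have h0 : (FibCat.overCat U).p.IsHomLift t.left t := IsHomLift.of_fac _ _ _ rfl rfl ((Category.id_comp _).trans (Category.comp_id _)).symm
  have := y.preserves_isHomLift t.left t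
  exact IsHomLift.fac' (AlgSt.QuotSt K G aX).p t.left (y.map t)

theorem map_toId_base (a : Over U) :
    (y.map (toId a)).base = eqToHom (base_obj y a) ≫ a.hom ≫ eqToHom (base_obj y (Over.mk (𝟙 U))).symm :=
  map_base y (toId a)

/-- The tautological morphism attached to a point of the torsor. -/
noncomputable def pointHom (c : Over (torsor y).P) : triv K G aX (c.hom ≫ (torsor y).φ) ⟶ torsor y :=
  trivHom _ c.hom _ rfl

theorem cellApp_w (c : Over (torsor y).P) :
    (eqToIso (base_obj y ((AlgSt.overMap (torsorπ y)).obj c))).hom ≫ (pointHom y c).base =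
      (y.map (toId ((AlgSt.overMap (torsorπ y)).obj c))).base := by
  rw [map_toId_base]
  show _ ≫ c.hom ≫ (torsor y).π = _ ≫ (c.hom ≫ (torsor y).π ≫ eqToHom _) ≫ eqToHom _
  simp

/-- The comparison at a point. -/
noncomputable def cellApp (c : Over (torsor y).P) :
    y.obj ((AlgSt.overMap (torsorπ y)).obj c) ≅ triv K G aX (c.hom ≫ (torsor y).φ) :=
  homLiftIso (pointHom y c) (y.map (toId _)) (eqToIso (base_obj y _)) (cellApp_w y c)

theorem cellApp_comp (c : Over (torsor y).P) : (cellApp y c).hom ≫ pointHom y c = y.map (toId _) := by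
  unfold cellApp homLiftIso
  exact homLift_comp _ _ _ (cellApp_w y c)

theorem cellApp_base (c : Over (torsor y).P) : (cellApp y c).hom.base = eqToHom (base_obj y _) := rfl

theorem quotMap_comp_pointHom {c c' : Over (torsor y).P} (t : c ⟶ c') :
    (quotOver K G aX).map ((AlgSt.overMap (torsor y).φ).map t) ≫ pointHom y c' = pointHom y c := by
  refine hom_ext_sec ?_
  show sec G c.left ≫ (G ◁ t.left) ≫ (G ◁ c'.hom) ≫ (torsor y).act.act = sec G c.left ≫ (G ◁ c.hom) ≫ (torsor y).act.act
  rw [← MonoidalCategory.whiskerLeft_comp_assoc, Over.w t]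

/-- The 2-cell of the square. -/
noncomputable def cell : BasedFunctor.comp (AlgSt.overMap (torsorπ y)) y ≅
    BasedFunctor.comp (AlgSt.overMap (torsor y).φ) (quotOver K G aX) :=
  BasedNatIso.mkNatIso
    (NatIso.ofComponents (fun c => cellApp y c) fun {c c'} t => by
      show y.map ((AlgSt.overMap (torsorπ y)).map t) ≫ (cellApp y c').hom =
        (cellApp y c).hom ≫ (quotOver K G aX).map ((AlgSt.overMap (torsor y).φ).map t)
      refine hom_ext_of_comp (pointHom y c') ?_ ?_
      · show (y.map _).base ≫ (cellApp y c').hom.base = (cellApp y c).hom.base ≫ _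
        rw [map_base, cellApp_base, cellApp_base]
        show (_ ≫ t.left ≫ _) ≫ _ = _ ≫ t.left
        simp
      · rw [Category.assoc, cellApp_comp, Category.assoc, quotMap_comp_pointHom, cellApp_comp,
          ← y.toFunctor.map_comp]
        congr 1
        exact Over.OverMorphism.ext (Over.w ((AlgSt.overMap (torsorπ y)).map t)))
    fun c => IsHomLift.of_fac _ _ _ (base_obj y _) rfl (by
      show 𝟙 c.left = eqToHom _ ≫ (cellApp y c).hom.base ≫ 𝟙 _
      rw [cellApp_base]
      simp)

/-- The comparison with the fibre product. -/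
noncomputable def toFp : FibCat.overCat (torsor y).P ⥤ᵇ FibCat.fp y (quotOver K G aX) :=
  FibCat.fpLift (AlgSt.overMap (torsorπ y)) (AlgSt.overMap (torsor y).φ) (cell y)

theorem toFp_isEquivOver : FibCat.IsEquivOver (toFp y) := by
  refine isEquivOver_of_exists_iso _ ⟨fun {c c'} t => ?_⟩ ⟨fun {c c'} t t' h => ?_⟩ fun pt => ?_
  · have w : y.map t.hom.fst ≫ (cellApp y c').hom = (cellApp y c).hom ≫ (quotOver K G aX).map t.hom.snd := t.hom.w
    have hb : t.hom.fst.left = t.hom.snd.left := by
      have h : (y.map t.hom.fst).base ≫ (cellApp y c').hom.base = (cellApp y c).hom.base ≫ t.hom.snd.left :=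
        congrArg QuotObj.Hom.base w
      rw [map_base, cellApp_base, cellApp_base] at h
      simp only [Category.assoc, eqToHom_trans, eqToHom_refl] at h
      rw [cancel_epi] at h
      exact (Category.comp_id _).symm.trans h
    have hq : (quotOver K G aX).map t.hom.snd ≫ pointHom y c' = pointHom y c := by
      rw [← cancel_epi (cellApp y c).hom, ← Category.assoc, ← w, Category.assoc, cellApp_comp, cellApp_comp,
        ← y.toFunctor.map_comp]
      congr 1
      exact Over.OverMorphism.ext (Over.w t.hom.fst)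
    have hP : t.hom.snd.left ≫ c'.hom = c.hom := by
      have h : sec G c.left ≫ (G ◁ t.hom.snd.left) ≫ (G ◁ c'.hom) ≫ (torsor y).act.act =
          sec G c.left ≫ (G ◁ c.hom) ≫ (torsor y).act.act :=
        congrArg (fun k => sec G c.left ≫ QuotObj.Hom.top k) hq
      rw [← MonoidalCategory.whiskerLeft_comp_assoc] at h
      simp only [sec, lift_whiskerLeft_assoc, Category.id_comp, act_one] at h
      exact h
    refine ⟨Over.homMk t.hom.snd.left hP, ObjectProperty.hom_ext _ (CategoricalPullback.hom_ext ?_ ?_)⟩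
    · exact Over.OverMorphism.ext hb.symm
    · exact Over.OverMorphism.ext rfl
  · exact Over.OverMorphism.ext (congrArg (fun k => k.hom.fst.left) h)
  · let a := pt.obj.fst
    let x := pt.obj.snd
    let θ : y.obj a ≅ (quotOver K G aX).obj x := pt.obj.iso
    have hl : (AlgSt.QuotSt K G aX).p.IsHomLift (𝟙 a.left) θ.hom := pt.property
    have hx : x.left = a.left := IsHomLift.codomain_eq (AlgSt.QuotSt K G aX).p (𝟙 a.left) θ.hom
    have hθ : θ.hom.base = eqToHom ((base_obj y a).trans hx.symm) := by
      have h := IsHomLift.fac' (AlgSt.QuotSt K G aX).p (𝟙 a.left) θ.hom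
      simp at h
      exact h
    have hθ' : θ.inv.base = eqToHom (hx.trans (base_obj y a).symm) := by
      have h : θ.inv.base ≫ θ.hom.base = 𝟙 _ := congrArg QuotObj.Hom.base θ.inv_hom_id
      rw [hθ, comp_eqToHom_iff] at h
      simpa using h
    let ψ : (quotOver K G aX).obj x ⟶ torsor y := θ.inv ≫ y.map (toId a)
    let b : x.left ⟶ (torsor y).P := sec G x.left ≫ ψ.top
    obtain ⟨hb, hψ⟩ := trivHom_hom (x := x.hom) (A := torsor y) ψ
    have hbπ : b ≫ torsorπ y = eqToHom hx ≫ a.hom := by
      have h1 : (b ≫ (torsor y).π : x.left ⟶ _) = ψ.base := congrArg QuotObj.Hom.base hψ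
      have h2 : ψ.base = θ.inv.base ≫ (y.map (toId a)).base := rfl
      rw [torsorπ, ← Category.assoc, h1, h2, hθ', map_toId_base]
      simp
    let c : Over (torsor y).P := Over.mk b
    let i₁ : (AlgSt.overMap (torsorπ y)).obj c ≅ a := Over.isoMk (eqToIso hx) hbπ.symm
    let i₂ : (AlgSt.overMap (torsor y).φ).obj c ≅ x := Over.isoMk (Iso.refl _) ((Category.id_comp _).trans hb.symm)
    have hq : (quotOver K G aX).map i₂.hom ≫ ψ = pointHom y c := by
      refine hom_ext_sec ?_
      show sec G x.left ≫ (G ◁ 𝟙 x.left) ≫ ψ.top = sec G x.left ≫ (G ◁ b) ≫ (torsor y).act.act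
      rw [MonoidalCategory.whiskerLeft_id, Category.id_comp]
      conv_rhs => rw [sec, lift_whiskerLeft_assoc, Category.id_comp, act_one]
    refine ⟨c, fpIsoMk (x := (toFp y).obj c) (y := pt) i₁ i₂ ?_, ?_⟩
    · show y.map i₁.hom ≫ θ.hom = (cellApp y c).hom ≫ (quotOver K G aX).map i₂.hom
      refine hom_ext_of_comp ψ ?_ ?_
      · show (y.map i₁.hom).base ≫ θ.hom.base = (cellApp y c).hom.base ≫ 𝟙 x.left
        rw [map_base, cellApp_base, hθ]
        simp [i₁, c]
        exact (Category.comp_id _).symm
      · rw [Category.assoc, Category.assoc, hq, cellApp_comp, Iso.hom_inv_id_assoc, ← y.toFunctor.map_comp]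
        congr 1
        exact Over.OverMorphism.ext (Over.w i₁.hom)
    · exact fp_isHomLift (𝟙 _) _ (h := IsHomLift.of_fac _ _ _ hx rfl (by
        show 𝟙 a.left = eqToHom hx.symm ≫ eqToHom hx ≫ 𝟙 _
        simp))

end Groth.Agent.QuotLib
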