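import Groth.Agent.QuotLib.Basic

/-!
# Morphisms between trivial torsors; local triviality
-/

set_option backward.isDefEq.respectTransparency false
set_option backward.isDefEq.respectTransparency.types false

universe u

open CategoryTheory CategoryTheory.Limits MonoidalCategory CartesianMonoidalCategory MonObj GrpObj AlgebraicGeometry

namespace Groth.Agent.QuotLib

open Groth.Agent.GrpSchLib AlgSt

variable {S : Scheme.{u}} {K : Precoverage Scheme.{u}} [K.HasIsos] {G : Over S} [GrpObj G] {X : Over S}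
  {aX : AlgGrp.Action G X}

theorem whisker_lift_leftMul {T T' : Over S} (g : T ⟶ G) (f : T ⟶ T') :
    (G ◁ lift g f) ≫ (leftMul G T').act = lift (fst G T * (snd G T ≫ g)) (snd G T ≫ f) := by
  simp only [leftMul, comp_lift, comp_mul, whiskerLeft_fst, whiskerLeft_snd_assoc, lift_fst, lift_snd]

theorem hom_triv_iff {T T' : Over S} (f : T ⟶ T') (x : T ⟶ X) (x' : T' ⟶ X) :
    (∀ h : triv K G aX x ⟶ triv K G aX x', h.base = f → ∃ g : T ⟶ G, lift g (f ≫ x') ≫ aX.act = x ∧
        h.top = lift (fst G T * (snd G T ≫ g)) (snd G T ≫ f)) ∧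
    (∀ g : T ⟶ G, lift g (f ≫ x') ≫ aX.act = x → ∃ h : triv K G aX x ⟶ triv K G aX x',
        h.base = f ∧ h.top = lift (fst G T * (snd G T ≫ g)) (snd G T ≫ f)) := by
  constructor
  · intro h hb
    let b : T ⟶ G ⊗ T' := sec G T ≫ h.top
    have hb2 : b ≫ snd G T' = f := by
      show (sec G T ≫ h.top) ≫ (triv K G aX x').π = f
      rw [Category.assoc, h.cart.w, hb, triv_π, sec, lift_snd_assoc, Category.id_comp]
    obtain ⟨hx, -⟩ := trivHom_hom h
    have hbe : b = lift (b ≫ fst G T') f := by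
      apply CartesianMonoidalCategory.hom_ext <;> simp [hb2]
    refine ⟨b ≫ fst G T', ?_, ?_⟩
    · have h1 : b ≫ (G ◁ x') ≫ aX.act = x := hx
      rw [hbe, lift_whiskerLeft_assoc] at h1
      exact h1
    · rw [top_eq h, ← whisker_lift_leftMul, ← hbe]
      rfl
  · intro g hg
    refine ⟨trivHom (triv K G aX x') (lift g f) x ?_, ?_, ?_⟩
    · show lift g f ≫ (G ◁ x') ≫ aX.act = x
      rw [lift_whiskerLeft_assoc]
      exact hg
    · exact lift_snd g f
    · exact whisker_lift_leftMul g f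

theorem exists_cover_triv (A : AlgSt.QuotObj K G aX) :
    ∃ (R : Presieve A.base.left) (_ : R ∈ K A.base.left),
      ∀ ⦃T' : Scheme.{u}⦄ (f : T' ⟶ A.base.left), R f →
        ∃ (x : Over.mk (f ≫ A.base.hom) ⟶ X) (h : triv K G aX x ⟶ A), h.base = Over.homMk f rfl := by
  obtain ⟨R, hR, hsec⟩ := A.loc
  refine ⟨R, hR, fun T' f hf => ?_⟩
  obtain ⟨s, hs⟩ := hsec f hf
  have hs' : s ≫ A.π.left = f := hs
  let b : Over.mk (f ≫ A.base.hom) ⟶ A.P := Over.homMk s (by
    show s ≫ A.P.hom = f ≫ A.base.hom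
    rw [← Over.w A.π, ← Category.assoc, hs'])
  exact ⟨b ≫ A.φ, trivHom A b _ rfl, Over.OverMorphism.ext hs'⟩

end Groth.Agent.QuotLib
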