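import Groth.Agent.QuotLib.Atlas
import Groth.Agent.AlgStLib.Calculus
import Groth.Agent.AlgStLib.SpaceCalc

/-!
# The action and projection square of a quotient map is 2-cartesian
-/

set_option backward.isDefEq.respectTransparency false
set_option backward.isDefEq.respectTransparency.types false

universe u

open CategoryTheory CategoryTheory.Functor CategoryTheory.Limits MonoidalCategory CartesianMonoidalCategory MonObj
  GrpObj AlgebraicGeometry AlgSp

namespace Groth.Agent.QuotLib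

open Groth.Agent.FibBase Groth.Agent.AlgStLib

variable {S : Scheme.{u}} {𝒳 𝒴 𝒵 𝒲 : AlgSt.Cat S}

theorem exists_isEquivOver_fpLift {F : 𝒳 ⥤ᵇ 𝒵} {H : 𝒴 ⥤ᵇ 𝒵} (Φ : 𝒲 ⥤ᵇ FibCat.fp F H)
    (hΦ : FibCat.IsEquivOver Φ) {a : 𝒲 ⥤ᵇ 𝒳} {b : 𝒲 ⥤ᵇ 𝒴} (α : BasedFunctor.comp Φ (FibCat.fpFst F H) ≅ a)
    (β : BasedFunctor.comp Φ (FibCat.fpSnd F H) ≅ b) :
    ∃ e : BasedFunctor.comp a F ≅ BasedFunctor.comp b H, FibCat.IsTwoCartOver a b e := by
  let e := whiskerRightIso α.symm F ≪≫ whiskerLeftIso Φ (FibCat.fpIso F H) ≪≫ whiskerRightIso β H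
  refine ⟨e, isEquivOver_of_iso (BasedNatIso.mkNatIso
    (NatIso.ofComponents (fun w => fpIsoMk (x := Φ.obj w) (y := (FibCat.fpLift a b e).obj w)
        (isoApp α w) (isoApp β w) ?_) fun {w w'} φ => ?_) fun w => ?_) hΦ⟩
  · show F.map (isoApp α w).hom ≫ (F.map (isoApp α w).inv ≫ (Φ.obj w).obj.iso.hom ≫ H.map (isoApp β w).hom) =
      (Φ.obj w).obj.iso.hom ≫ H.map (isoApp β w).hom
    rw [← Category.assoc, ← F.toFunctor.map_comp, Iso.hom_inv_id, F.toFunctor.map_id, Category.id_comp]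
  · exact ObjectProperty.hom_ext _ (CategoricalPullback.hom_ext (natural α φ) (natural β φ))
  · exact fp_isHomLift (F := F) (G := H) (𝟙 _) _ (h := isoApp_lift α (a := w) rfl)

variable {K : Precoverage Scheme.{u}} [K.HasIsos] {G : Over S} [GrpObj G] {X : Over S}

theorem exists_twoCart_act_snd (aX : AlgGrp.Action G X) :
    ∃ e : BasedFunctor.comp (AlgSt.ofSpMap ((AlgSp.yon S).map aX.act)) (AlgSt.quotMap K G aX) ≅
        BasedFunctor.comp (AlgSt.ofSpMap ((AlgSp.yon S).map (snd G X))) (AlgSt.quotMap K G aX),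
      FibCat.IsTwoCartOver (AlgSt.ofSpMap ((AlgSp.yon S).map aX.act))
        (AlgSt.ofSpMap ((AlgSp.yon S).map (snd G X))) e := by
  have : (BasedFunctor.id (AlgSt.QuotSt K G aX)).toFunctor.Full := inferInstanceAs (𝟭 _).Full
  have : (BasedFunctor.id (AlgSt.QuotSt K G aX)).toFunctor.Faithful := inferInstanceAs (𝟭 _).Faithful
  let y := quotOver K G aX
  let m := fpMap (F := AlgSt.quotMap K G aX) (G := AlgSt.quotMap K G aX) (F' := y) (G' := y)
    (a := AlgSt.ofOverCat X) (b := AlgSt.ofOverCat X) (c := BasedFunctor.id _) (Iso.refl _) (Iso.refl _)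
  let Φ : AlgSt.ofSch (G ⊗ X) ⥤ᵇ FibCat.fp (AlgSt.quotMap K G aX) (AlgSt.quotMap K G aX) :=
    BasedFunctor.comp (AlgSt.toOverCat (G ⊗ X)) (BasedFunctor.comp (toFp y) (BasedFunctor.comp (fpSwap y y) m))
  refine exists_isEquivOver_fpLift Φ (isEquivOver_comp (isEquivOver_toOverCat _)
    (isEquivOver_comp (toFp_isEquivOver y) (isEquivOver_comp (fpSwap_isEquivOver y y)
      (fpMap_isEquivOver _ _ (isEquivOver_ofOverCat X) (isEquivOver_ofOverCat X)))))
    (pshIso _ _ fun z => ?_) (pshIso _ _ fun z => ?_)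
  · refine congrArg ULift.up ?_
    show 𝟙 z.base ≫ z.sec.down ≫ ((G ◁ 𝟙 X) ≫ aX.act) = 𝟙 z.base ≫ z.sec.down ≫ aX.act
    rw [MonoidalCategory.whiskerLeft_id, Category.id_comp (z.sec.down ≫ _), Category.id_comp (z.sec.down ≫ _), Category.id_comp aX.act]
  · refine congrArg ULift.up ?_
    show 𝟙 z.base ≫ z.sec.down ≫ (snd G X ≫ 𝟙 X) = 𝟙 z.base ≫ z.sec.down ≫ snd G X
    rw [Category.comp_id]

end Groth.Agent.QuotLib
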