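import Groth.Prelude.Def_AlgSt5
import Groth.Agent.GrpSchLib.Action

/-!
# Morphisms in quotient stacks
-/

set_option backward.isDefEq.respectTransparency false
set_option backward.isDefEq.respectTransparency.types false

universe u

open CategoryTheory CategoryTheory.Limits MonoidalCategory CartesianMonoidalCategory MonObj GrpObj AlgebraicGeometry

namespace Groth.Agent.QuotLib

open Groth.Agent.GrpSchLib AlgSt

variable {S : Scheme.{u}} {K : Precoverage Scheme.{u}} {G : Over S} [GrpObj G] {X : Over S}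
  {aX : AlgGrp.Action G X} {A A' B : AlgSt.QuotObj K G aX}

/-- Morphisms into the source of a morphism, by cartesianness. -/
noncomputable def homLift (φ : A' ⟶ A) (ψ : B ⟶ A) (f : B.base ⟶ A'.base) (w : f ≫ φ.base = ψ.base) : B ⟶ A' where
  base := f
  top := φ.cart.lift ψ.top (B.π ≫ f) (by rw [Category.assoc, w]; exact ψ.cart.w)
  eqv := by
    apply φ.cart.hom_ext
    · rw [Category.assoc, IsPullback.lift_fst, ψ.eqv, Category.assoc, φ.eqv, ← MonoidalCategory.whiskerLeft_comp_assoc,
        IsPullback.lift_fst]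
    · rw [Category.assoc, IsPullback.lift_snd, reassoc_of% B.cart.w, Category.assoc, A'.cart.w, whiskerLeft_snd_assoc,
        IsPullback.lift_snd]
  cart := IsPullback.of_right (by rw [IsPullback.lift_fst, w]; exact ψ.cart) (φ.cart.lift_snd _ _ _) φ.cart
  wφ := by rw [← φ.wφ, IsPullback.lift_fst_assoc, ψ.wφ]

theorem homLift_comp (φ : A' ⟶ A) (ψ : B ⟶ A) (f : B.base ⟶ A'.base) (w : f ≫ φ.base = ψ.base) :
    homLift φ ψ f w ≫ φ = ψ :=
  QuotObj.hom_ext w (φ.cart.lift_fst _ _ _)

theorem hom_ext_of_comp {g g' : B ⟶ A'} (φ : A' ⟶ A) (hb : g.base = g'.base) (h : g ≫ φ = g' ≫ φ) : g = g' := by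
  refine QuotObj.hom_ext hb (φ.cart.hom_ext ?_ ?_)
  · exact congrArg (fun k => QuotObj.Hom.top k) h
  · rw [g.cart.w, g'.cart.w, hb]

/-- Two morphisms with isomorphic bases have isomorphic sources. -/
noncomputable def homLiftIso (φ : A' ⟶ A) (ψ : B ⟶ A) (f : B.base ≅ A'.base) (w : f.hom ≫ φ.base = ψ.base) :
    B ≅ A' where
  hom := homLift φ ψ f.hom w
  inv := homLift ψ φ f.inv (by rw [← w, Iso.inv_hom_id_assoc])
  hom_inv_id := hom_ext_of_comp ψ f.hom_inv_id (by rw [Category.assoc, homLift_comp, homLift_comp, Category.id_comp])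
  inv_hom_id := hom_ext_of_comp φ f.inv_hom_id (by rw [Category.assoc, homLift_comp, homLift_comp, Category.id_comp])

/-- The unit section of the trivial torsor. -/
noncomputable def sec (G T : Over S) [GrpObj G] : T ⟶ G ⊗ T := lift 1 (𝟙 T)

section Triv

variable [K.HasIsos]

variable (K G aX) in
/-- The trivial torsor of a point. -/
noncomputable abbrev triv {T : Over S} (x : T ⟶ X) : AlgSt.QuotObj K G aX :=
  (quotMap K G aX).obj ((ofOverCat X).obj (Over.mk x))

theorem triv_π {T : Over S} (x : T ⟶ X) : (triv K G aX x).π = snd G T := rfl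

theorem triv_φ {T : Over S} (x : T ⟶ X) : (triv K G aX x).φ = (G ◁ x) ≫ aX.act := rfl

theorem triv_act {T : Over S} (x : T ⟶ X) :
    (triv K G aX x).act.act = lift (fst G (G ⊗ T) * (snd G (G ⊗ T) ≫ fst G T)) (snd G (G ⊗ T) ≫ snd G T) := rfl

theorem sec_φ {T : Over S} (x : T ⟶ X) : sec G T ≫ (triv K G aX x).φ = x := by
  rw [triv_φ, sec, lift_whiskerLeft_assoc, Category.id_comp, act_one]

/-- The morphism from a trivial torsor attached to a point of the total space. -/
noncomputable def trivHom {T : Over S} (A : AlgSt.QuotObj K G aX) (b : T ⟶ A.P) (x : T ⟶ X) (hx : b ≫ A.φ = x) :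
    triv K G aX x ⟶ A where
  base := b ≫ A.π
  top := (G ◁ b) ≫ A.act.act
  eqv := by
    change _ ≫ (G ◁ b) ≫ A.act.act = (G ◁ ((G ◁ b) ≫ A.act.act)) ≫ A.act.act
    rw [triv_act, lift_whiskerLeft_assoc, ← act_mul]
    congr 1
    apply CartesianMonoidalCategory.hom_ext
    · simp
    · simp only [lift_snd, whiskerLeft_snd, Category.assoc, ← comp_lift_assoc]
      congr 2
  cart := (isPullback_whiskerLeft b).paste_horiz A.cart
  wφ := by
    change ((G ◁ b) ≫ A.act.act) ≫ A.φ = (G ◁ x) ≫ aX.act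
    rw [Category.assoc, A.eqv, ← MonoidalCategory.whiskerLeft_comp_assoc, hx]

theorem trivHom_sec {T : Over S} (A : AlgSt.QuotObj K G aX) (b : T ⟶ A.P) (x : T ⟶ X) (hx : b ≫ A.φ = x) :
    sec G T ≫ (trivHom A b x hx).top = b := by
  change sec G T ≫ (G ◁ b) ≫ A.act.act = b
  rw [sec, lift_whiskerLeft_assoc, Category.id_comp, act_one]

/-- Morphisms from trivial torsors are determined by the image of the unit section. -/
theorem top_eq {T : Over S} {x : T ⟶ X} (h : triv K G aX x ⟶ A) :
    h.top = (G ◁ (sec G T ≫ h.top)) ≫ A.act.act := by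
  let j : G ⊗ T ⟶ G ⊗ (G ⊗ T) := lift (fst G T) (snd G T ≫ sec G T)
  have e : j ≫ (triv K G aX x).act.act = 𝟙 (G ⊗ T) := by
    rw [triv_act, comp_lift, comp_mul]
    simp only [j, sec, lift_fst, lift_snd_assoc, Category.assoc, lift_snd]
    rw [MonObj.comp_one, _root_.mul_one, Category.comp_id]
    exact lift_fst_snd
  calc h.top = (j ≫ (triv K G aX x).act.act) ≫ h.top := by rw [e]; exact (Category.id_comp _).symm
    _ = (G ◁ (sec G T ≫ h.top)) ≫ A.act.act := by
      rw [Category.assoc, h.eqv, ← Category.assoc]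
      congr 1
      simp only [j]
      apply CartesianMonoidalCategory.hom_ext <;> simp

theorem trivHom_hom {T : Over S} {x : T ⟶ X} (h : triv K G aX x ⟶ A) :
    ∃ hx, trivHom A (sec G T ≫ h.top) x hx = h := by
  have hx : (sec G T ≫ h.top) ≫ A.φ = x := by
    rw [Category.assoc, h.wφ]
    exact sec_φ x
  refine ⟨hx, QuotObj.hom_ext ?_ (top_eq h).symm⟩
  show (sec G T ≫ h.top) ≫ A.π = h.base
  rw [Category.assoc, h.cart.w, triv_π, sec, lift_snd_assoc, Category.id_comp]

theorem hom_ext_sec {T : Over S} {x : T ⟶ X} {h h' : triv K G aX x ⟶ A}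
    (e : sec G T ≫ h.top = sec G T ≫ h'.top) : h = h' := by
  obtain ⟨_, e₁⟩ := trivHom_hom h
  obtain ⟨_, e₂⟩ := trivHom_hom h'
  rw [← e₁, ← e₂]
  congr 1

end Triv

end Groth.Agent.QuotLib
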