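import Groth.Agent.QuotLib.Descend
import Groth.Agent.QuotLib.TrivHom
import Groth.Agent.AlgStLib.OfSp
import Groth.Prelude.Def_StCoarse
import Groth.Prelude.Def_W4bk4git07Quot

/-!
# Categorical moduli spaces of quotient stacks and categorical quotients
-/

set_option backward.isDefEq.respectTransparency false
set_option backward.isDefEq.respectTransparency.types false

universe u

open CategoryTheory CategoryTheory.Functor CategoryTheory.Limits MonoidalCategory CartesianMonoidalCategory MonObj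
  GrpObj AlgebraicGeometry AlgSp Opposite

namespace Groth.Agent.QuotLib

open Groth.Agent.FibBase Groth.Agent.AlgSpLib Groth.Agent.AlgStLib

variable {S : Scheme.{u}} {G : Over S} [GrpObj G] {X : Over S} {aX : AlgGrp.Action G X}

local notation "K₀" => Scheme.fppfPrecoverage

variable {M N : Sp S}

/-- The map of sheaves underlying a functor on the quotient stack. -/
noncomputable def restrHom (φ : AlgSt.QuotSt K₀ G aX ⥤ᵇ AlgSt.ofSp M) : (yon S).obj X ⟶ M :=
  spHom (BasedFunctor.comp (AlgSt.quotMap K₀ G aX) φ)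

theorem restrHom_app (φ : AlgSt.QuotSt K₀ G aX ⥤ᵇ AlgSt.ofSp M) {T : Over S} (x : T ⟶ X) :
    (restrHom φ).hom.app (op T) ⟨x⟩ = secAt φ (triv K₀ G aX x) := rfl

theorem restrHom_invariant (φ : AlgSt.QuotSt K₀ G aX ⥤ᵇ AlgSt.ofSp M) :
    (yon S).map aX.act ≫ restrHom φ = (yon S).map (snd G X) ≫ restrHom φ := by
  refine ObjectProperty.hom_ext _ ?_
  ext T ⟨z⟩
  show (restrHom φ).hom.app (op T.unop) ⟨z ≫ aX.act⟩ = (restrHom φ).hom.app (op T.unop) ⟨z ≫ snd G X⟩
  rw [restrHom_app, restrHom_app]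
  have hz : lift (z ≫ fst G X) (𝟙 T.unop ≫ z ≫ snd G X) ≫ aX.act = z ≫ aX.act := by
    congr 1
    apply CartesianMonoidalCategory.hom_ext <;> simp
  obtain ⟨h, hb, -⟩ := (hom_triv_iff (K := K₀) (G := G) (aX := aX) (𝟙 T.unop) (z ≫ aX.act) (z ≫ snd G X)).2 _ hz
  have h1 := secAt_map φ h
  have hb' : (AlgSt.QuotSt K₀ G aX).p.map h = 𝟙 T.unop := hb
  rw [hb'] at h1
  exact h1.symm.trans (res_id M.obj _ rfl _)

variable [Flat G.hom] [LocallyOfFinitePresentation G.hom]

theorem secAt_eq_of_triv {φ ψ : AlgSt.QuotSt K₀ G aX ⥤ᵇ AlgSt.ofSp M}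
    (h : restrHom φ = restrHom ψ) (A : AlgSt.QuotObj K₀ G aX) : secAt φ A = secAt ψ A := by
  let t := trivHom A (𝟙 A.P) A.φ (Category.id_comp _)
  have hb : (AlgSt.QuotSt K₀ G aX).p.map t = A.π := Category.id_comp _
  refine (Presieve.isSeparatedFor_singleton.1
    (isSheafFor_singleton_fppf M A.π (fppf_π A)).isSeparatedFor) ?_
  have h1 := secAt_map φ t
  have h2 := secAt_map ψ t
  rw [hb] at h1 h2
  refine h1.trans (Eq.trans ?_ h2.symm)
  exact congrArg (fun (k : (yon S).obj X ⟶ M) => k.hom.app (op A.P) ⟨A.φ⟩) h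

theorem nonempty_iso_iff (φ ψ : AlgSt.QuotSt K₀ G aX ⥤ᵇ AlgSt.ofSp M) :
    Nonempty (φ ≅ ψ) ↔ restrHom φ = restrHom ψ := by
  refine ⟨fun ⟨e⟩ => ?_, fun h => ⟨pshIso _ _ fun A => secAt_eq_of_triv h A⟩⟩
  refine ObjectProperty.hom_ext _ ?_
  ext T ⟨z⟩
  exact secAt_eq_of_iso e _

theorem restrHom_comp (φ : AlgSt.QuotSt K₀ G aX ⥤ᵇ AlgSt.ofSp M) (g : M ⟶ N) :
    restrHom (BasedFunctor.comp φ (AlgSt.ofSpMap g)) = restrHom φ ≫ g := by
  refine ObjectProperty.hom_ext _ ?_
  ext T ⟨z⟩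
  exact secAt_comp_ofPshMap φ g.hom _

theorem restrHom_descFunctor (f : (yon S).obj X ⟶ M)
    (hf : (yon S).map aX.act ≫ f = (yon S).map (snd G X) ≫ f) : restrHom (descFunctor f hf) = f := by
  obtain ⟨ψ, h, huniq⟩ := existsUnique_descFunctor f hf
  refine ObjectProperty.hom_ext _ ?_
  ext T ⟨z⟩
  refine (restrHom_app _ z).trans ((secAt_descFunctor f hf _).trans ?_)
  refine (existsUnique_desc f hf _).unique (desc_spec f hf _) ?_
  show M.obj.map (snd G T.unop).op (f.hom.app (op T.unop) ⟨z⟩) =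
    f.hom.app (op (G ⊗ T.unop)) ⟨(G ◁ z) ≫ aX.act⟩
  rw [app_map, app_invariant M f hf, whiskerLeft_snd]

theorem isRepresentable_yon (Y : Over S) : ((yon S).obj Y).obj.IsRepresentable :=
  Functor.RepresentableBy.isRepresentable (Y := Y)
    { homEquiv := Equiv.ulift.symm
      homEquiv_comp := fun _ _ => rfl }

theorem exists_iso_yon (h : N.obj.IsRepresentable) : ∃ Z : Over S, Nonempty ((yon S).obj Z ≅ N) := by
  obtain ⟨Z, ⟨r⟩⟩ := h.has_representation
  exact ⟨Z, ⟨ObjectProperty.isoMk _ (NatIso.ofComponents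
    (fun T => (Equiv.ulift.trans r.homEquiv).toIso) fun {T T'} g => by
      ext ⟨x⟩
      exact r.homEquiv_comp g.unop x)⟩⟩

theorem isCatModuliSch_iff {Y : Over S} (f : X ⟶ Y) (π : AlgSt.QuotSt K₀ G aX ⥤ᵇ AlgSt.ofSch Y)
    (hπ : Nonempty (BasedFunctor.comp (AlgSt.quotMap K₀ G aX) π ≅ AlgSt.ofSpMap ((yon S).map f))) :
    AlgSt.IsCatModuliSch π ↔ GIT.IsCatQuot aX f := by
  obtain ⟨e⟩ := hπ
  have hπf : restrHom π = (yon S).map f := (spHom_congr e).trans (spHom_ofSpMap _)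
  have key : ∀ {N : Sp S} (g : (yon S).obj Y ⟶ N) (φ : AlgSt.QuotSt K₀ G aX ⥤ᵇ AlgSt.ofSp N),
      Nonempty (BasedFunctor.comp π (AlgSt.ofSpMap g) ≅ φ) ↔ (yon S).map f ≫ g = restrHom φ := fun g φ => by
    rw [nonempty_iso_iff, restrHom_comp, hπf]
  have hinv : GIT.IsInvariant aX f := by
    refine (yon S).map_injective ?_
    rw [Functor.map_comp, Functor.map_comp, ← hπf]
    exact restrHom_invariant π
  constructor
  · intro h
    refine ⟨hinv, fun Z ψ hψ => ?_⟩
    have hf : (yon S).map aX.act ≫ (yon S).map ψ = (yon S).map (snd G X) ≫ (yon S).map ψ := by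
      rw [← Functor.map_comp, ← Functor.map_comp, hψ]
    obtain ⟨g, hg, huniq⟩ := h.2 _ (isRepresentable_yon Z) (descFunctor _ hf)
    rw [key, restrHom_descFunctor] at hg
    obtain ⟨χ, rfl⟩ := (yon S).map_surjective g
    refine ⟨χ, (yon S).map_injective (by rw [Functor.map_comp]; exact hg), fun χ' hχ' => ?_⟩
    refine (yon S).map_injective (huniq _ ((key _ _).2 ?_))
    rw [restrHom_descFunctor, ← Functor.map_comp, hχ']
  · intro h
    refine ⟨isRepresentable_yon Y, fun N hN φ => ?_⟩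
    simp only [key]
    obtain ⟨Z, ⟨i⟩⟩ := exists_iso_yon hN
    obtain ⟨ψ, hψ⟩ := (yon S).map_surjective (restrHom φ ≫ i.inv)
    have hψi : GIT.IsInvariant aX ψ := by
      refine (yon S).map_injective ?_
      rw [Functor.map_comp, Functor.map_comp, hψ, ← Category.assoc, ← Category.assoc, restrHom_invariant]
    obtain ⟨χ, hχ, huniq⟩ := h.2 Z ψ hψi
    refine ⟨(yon S).map χ ≫ i.hom, ?_, fun g hg => ?_⟩
    · show (yon S).map f ≫ (yon S).map χ ≫ i.hom = restrHom φ
      rw [← Functor.map_comp_assoc, hχ, hψ, Category.assoc, Iso.inv_hom_id, Category.comp_id]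
    · obtain ⟨χ', hχ'⟩ := (yon S).map_surjective (g ≫ i.inv)
      have : χ' = χ := huniq χ' ((yon S).map_injective (by
        rw [Functor.map_comp, hχ', hψ, ← Category.assoc, hg]))
      rw [← this, hχ', Category.assoc, Iso.inv_hom_id, Category.comp_id]

end Groth.Agent.QuotLib
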